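import Mathlib

/-! Gordan's alternative for finitely many elements of a finitely generated abelian group, and the height function of
a face of a finitely generated monoid. -/

set_option autoImplicit false

namespace Groth.Agent.GordanLib

theorem exists_hom_pos_aux : ∀ (n : ℕ) (G : Type) [AddCommGroup G] [AddGroup.FG G] (v : Fin n → G),
    (∀ c : Fin n → ℕ, ∑ i, c i • v i = 0 → c = 0) → ∃ φ : G →+ ℤ, ∀ i, 0 < φ (v i) := by
  intro n
  induction n with
  | zero => exact fun G _ _ v _ => ⟨0, fun i => i.elim0⟩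
  | succ n ih =>
    intro G _ _ v hv
    let w := v (Fin.last n)
    let q := QuotientAddGroup.mk' (AddSubgroup.zmultiples w)
    by_cases h : ∀ c : Fin n → ℕ, ∑ i, c i • q (v i.castSucc) = 0 → c = 0
    · obtain ⟨φ₀, hφ₀⟩ := ih (G ⧸ AddSubgroup.zmultiples w) (fun i => q (v i.castSucc)) h
      have htor : w ∉ Submodule.torsion ℤ G := by
        rw [Submodule.mem_torsion_iff]
        rintro ⟨⟨k, hk⟩, hkw⟩
        change k • w = 0 at hkw
        have hk0 : k ≠ 0 := nonZeroDivisors.ne_zero hk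
        have h2 : k.natAbs • w = 0 := by
          rcases Int.natAbs_eq k with e | e
          · rw [e, natCast_zsmul] at hkw; exact hkw
          · rw [e, neg_zsmul, natCast_zsmul, neg_eq_zero] at hkw; exact hkw
        have h3 := hv (Pi.single (Fin.last n) k.natAbs) (by
          rw [Finset.sum_eq_single (Fin.last n)]
          · rw [Pi.single_eq_same]; exact h2
          · intro b _ hb; rw [Pi.single_eq_of_ne hb, zero_smul]
          · simp)
        have h4 := congrFun h3 (Fin.last n)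
        rw [Pi.single_eq_same, Pi.zero_apply, Int.natAbs_eq_zero] at h4
        exact hk0 h4
      obtain ⟨φ₁, hφ₁⟩ : ∃ φ₁ : G →+ ℤ, φ₁ w ≠ 0 := by
        have : Module.Finite ℤ G := Module.Finite.iff_addGroup_fg.mpr inferInstance
        let Q := G ⧸ Submodule.torsion ℤ G
        let b := Module.Free.chooseBasis ℤ Q
        have hw : (Submodule.torsion ℤ G).mkQ w ≠ 0 := by
          rw [Submodule.mkQ_apply, ne_eq, Submodule.Quotient.mk_eq_zero]
          exact htor
        obtain ⟨i, hi⟩ : ∃ i, b.repr ((Submodule.torsion ℤ G).mkQ w) i ≠ 0 := by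
          by_contra hh
          push Not at hh
          exact hw (b.repr.injective (Finsupp.ext fun i => by rw [hh i, map_zero, Finsupp.zero_apply]))
        exact ⟨((b.coord i).comp (Submodule.torsion ℤ G).mkQ).toAddMonoidHom, hi⟩
      obtain ⟨φ₂, hφ₂⟩ : ∃ φ₂ : G →+ ℤ, 0 < φ₂ w := by
        rcases lt_or_gt_of_ne hφ₁ with hl | hl
        · exact ⟨-φ₁, by simp [hl]⟩
        · exact ⟨φ₁, hl⟩
      let K : ℤ := 1 + ∑ i : Fin n, |φ₂ (v i.castSucc)|
      refine ⟨K • φ₀.comp q + φ₂, Fin.lastCases ?_ fun i => ?_⟩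
      · have : q w = 0 := (QuotientAddGroup.eq_zero_iff w).mpr (AddSubgroup.mem_zmultiples w)
        simpa [w, this] using hφ₂
      · have h1 : 1 ≤ φ₀ (q (v i.castSucc)) := hφ₀ i
        have h2 : |φ₂ (v i.castSucc)| < K := by
          have := Finset.single_le_sum (f := fun j : Fin n => |φ₂ (v j.castSucc)|) (fun j _ => abs_nonneg _) (Finset.mem_univ i)
          dsimp [K] at *
          linarith
        have hK : 0 ≤ K := (abs_nonneg _).trans h2.le
        simp only [AddMonoidHom.add_apply, AddMonoidHom.coe_comp, Function.comp_apply, AddMonoidHom.smul_apply, smul_eq_mul]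
        nlinarith [neg_abs_le (φ₂ (v i.castSucc))]
    · push Not at h
      obtain ⟨c, hc0, hc⟩ := h
      have hmem : ∑ i, c i • v i.castSucc ∈ AddSubgroup.zmultiples w := by
        rw [← QuotientAddGroup.eq_zero_iff]
        refine Eq.trans ?_ hc0
        change q (∑ i, c i • v i.castSucc) = _
        simp
      obtain ⟨t, ht⟩ := AddSubgroup.mem_zmultiples_iff.mp hmem
      have htpos : 0 < t := by
        by_contra hle
        push Not at hle
        obtain ⟨s, hs⟩ := Int.eq_ofNat_of_zero_le (neg_nonneg.mpr hle)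
        have := hv (Fin.snoc c s) (by
          rw [Fin.sum_univ_castSucc]
          simp only [Fin.snoc_castSucc, Fin.snoc_last]
          rw [← ht, ← natCast_zsmul, ← hs, neg_zsmul, add_neg_cancel])
        exact hc (funext fun i => by simpa using congrFun this i.castSucc)
      obtain ⟨φ, hφ⟩ := ih G (fun i => v i.castSucc) fun d hd => by
        have := hv (Fin.snoc d 0) (by
          rw [Fin.sum_univ_castSucc]
          simp only [Fin.snoc_castSucc, Fin.snoc_last, zero_smul, add_zero]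
          exact hd)
        exact funext fun i => by simpa using congrFun this i.castSucc
      refine ⟨φ, Fin.lastCases ?_ hφ⟩
      have hsum := congrArg φ ht
      rw [map_zsmul, map_sum, smul_eq_mul] at hsum
      have hpos : 0 < ∑ i, φ (c i • v i.castSucc) := by
        obtain ⟨j, hj⟩ := Function.ne_iff.mp hc
        refine Finset.sum_pos' (fun i _ => by rw [map_nsmul]; exact nsmul_nonneg (hφ i).le _) ⟨j, Finset.mem_univ _, ?_⟩
        rw [map_nsmul]
        exact nsmul_pos (hφ j) hj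
      rw [← hsum] at hpos
      exact pos_of_mul_pos_right hpos htpos.le

/-- A functional supporting a face. -/
theorem exists_height_hom {M : Type} [AddCommGroup M] [AddGroup.FG M] {N F : AddSubmonoid M} (hN : N.FG) (hle : F ≤ N)
    (hF : ∀ x ∈ N, ∀ y ∈ N, x + y ∈ F → x ∈ F ∧ y ∈ F) :
    ∃ ψ : M →+ ℤ, (∀ m ∈ F, ψ m = 0) ∧ ∀ m ∈ N, 0 ≤ ψ m ∧ (ψ m = 0 → m ∈ F) := by
  classical
  obtain ⟨s, hs⟩ := hN
  let H := AddSubgroup.closure (F : Set M)
  let q := QuotientAddGroup.mk' H
  let s' := s.filter (fun g => g ∉ F)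
  have hmemN : ∀ g ∈ s, g ∈ N := fun g hg => hs ▸ AddSubmonoid.subset_closure hg
  have hH : ∀ m ∈ H, ∃ f₁ ∈ F, ∃ f₂ ∈ F, m + f₁ = f₂ := by
    intro m hm
    induction hm using AddSubgroup.closure_induction with
    | mem x hx => exact ⟨0, F.zero_mem, x, hx, add_zero x⟩
    | zero => exact ⟨0, F.zero_mem, 0, F.zero_mem, add_zero 0⟩
    | add x y _ _ hx hy =>
      obtain ⟨a, ha, b, hb, e⟩ := hx
      obtain ⟨a', ha', b', hb', e'⟩ := hy
      exact ⟨a + a', F.add_mem ha ha', b + b', F.add_mem hb hb', by rw [← e, ← e']; abel⟩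
    | neg x _ hx =>
      obtain ⟨a, ha, b, hb, e⟩ := hx
      exact ⟨b, hb, a, ha, by rw [← e]; abel⟩
  obtain ⟨φ, hφ⟩ := exists_hom_pos_aux s'.card (M ⧸ H) (fun i => q (s'.equivFin.symm i : M)) fun c hc => by
    have hm : ∑ i, c i • (s'.equivFin.symm i : M) ∈ H := by
      rw [← QuotientAddGroup.eq_zero_iff]
      refine Eq.trans ?_ hc
      change q (∑ i, c i • (s'.equivFin.symm i : M)) = _
      simp
    obtain ⟨f₁, hf₁, f₂, hf₂, e⟩ := hH _ hm
    have hxN : ∀ t : Finset (Fin s'.card), ∑ i ∈ t, c i • (s'.equivFin.symm i : M) ∈ N := fun t =>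
      N.sum_mem fun i _ => N.nsmul_mem (hmemN _ (Finset.mem_filter.mp (s'.equivFin.symm i).2).1) _
    have hxF : ∑ i, c i • (s'.equivFin.symm i : M) ∈ F := (hF _ (hxN _) _ (hle hf₁) (e ▸ hf₂)).1
    funext i
    by_contra hi
    have hiN : (s'.equivFin.symm i : M) ∈ N := hmemN _ (Finset.mem_filter.mp (s'.equivFin.symm i).2).1
    rw [← Finset.add_sum_erase _ _ (Finset.mem_univ i)] at hxF
    have h1 := (hF _ (N.nsmul_mem hiN _) _ (hxN _) hxF).1
    obtain ⟨k, hk⟩ := Nat.exists_eq_succ_of_ne_zero hi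
    rw [hk, succ_nsmul'] at h1
    exact (Finset.mem_filter.mp (s'.equivFin.symm i).2).2 (hF _ hiN _ (N.nsmul_mem hiN _) h1).1
  let ψ : M →+ ℤ := φ.comp q
  have hψF : ∀ m ∈ F, ψ m = 0 := fun m hm => by
    have : q m = 0 := (QuotientAddGroup.eq_zero_iff m).mpr (AddSubgroup.subset_closure hm)
    simp [ψ, this]
  have hψ : ∀ m ∈ N, 0 ≤ ψ m ∧ (ψ m = 0 → m ∈ F) := by
    intro m hm
    rw [← hs] at hm
    induction hm using AddSubmonoid.closure_induction with
    | mem x hx =>
      by_cases hxF : x ∈ F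
      · exact ⟨(hψF x hxF).ge, fun _ => hxF⟩
      · have hx' : x ∈ s' := Finset.mem_filter.mpr ⟨hx, hxF⟩
        have := hφ (s'.equivFin ⟨x, hx'⟩)
        simp only [Equiv.symm_apply_apply] at this
        exact ⟨this.le, fun h0 => absurd h0 this.ne'⟩
    | zero => exact ⟨by simp, fun _ => F.zero_mem⟩
    | add x y _ _ hx hy =>
      rw [map_add]
      exact ⟨add_nonneg hx.1 hy.1, fun h0 => F.add_mem (hx.2 ((add_eq_zero_iff_of_nonneg hx.1 hy.1).mp h0).1)
        (hy.2 ((add_eq_zero_iff_of_nonneg hx.1 hy.1).mp h0).2)⟩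
  exact ⟨ψ, hψF, hψ⟩

/-- A height function of a face. -/
theorem exists_height {M : Type} [AddCommGroup M] [AddGroup.FG M] {N F : AddSubmonoid M} (hN : N.FG) (hle : F ≤ N)
    (hF : ∀ x ∈ N, ∀ y ∈ N, x + y ∈ F → x ∈ F ∧ y ∈ F) :
    ∃ d : ↥N →+ ℕ, ∀ n : ↥N, d n = 0 ↔ (n : M) ∈ F := by
  obtain ⟨ψ, hψF, hψ⟩ := exists_height_hom hN hle hF
  have hadd : ∀ a b : ↥N, (ψ ((a + b : ↥N) : M)).toNat = (ψ (a : M)).toNat + (ψ (b : M)).toNat := fun a b => by
    simp only [AddSubmonoid.coe_add, map_add]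
    exact Int.toNat_add (hψ _ a.2).1 (hψ _ b.2).1
  refine ⟨{ toFun := fun n => (ψ (n : M)).toNat, map_zero' := by simp, map_add' := hadd }, fun n => ?_⟩
  constructor
  · intro h
    exact (hψ _ n.2).2 (le_antisymm (Int.toNat_eq_zero.mp h) (hψ _ n.2).1)
  · intro h
    change (ψ (n : M)).toNat = 0
    rw [hψF _ h]
    rfl

end Groth.Agent.GordanLib
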